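import Cfsg.Agent.H985.VZ.Rep
import Mathlib.Algebra.DirectSum.LinearMap

/-!
# S4842, box (F2): the induction lemma (helper224)

`ρ` a representation of `L` on `V`, `P` a subgroup, `F` a `P`-stable subspace, `pr : V → W` linear, injective on `F`, with
`pr (ρ g f) = 0` for `g ∉ P`, `f ∈ F`.  Then `span (L F)` is the direct sum of the `ρ g F`, `g ∈ L ⧸ P`
(`indep`, `isInternal`), and if no conjugate of `t` is in `P`, then the trace of `t` on it is `0`
(`char_span`; `trace_top` if `span (L F) = V`).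
-/

set_option autoImplicit false
set_option linter.unusedSectionVars false

open Cfsg

namespace Cfsg.Agent.H224.OZ.Ind

open Module Cfsg.Agent.Characters.Core Cfsg.Agent.H985.VZ

universe u v w

section

variable {L : Type u} [Group L] {V : Type v} [AddCommGroup V] [Module ℂ V] {W : Type w} [AddCommGroup W] [Module ℂ W]
variable (ρ : Representation ℂ L V)

/-- `span (L F)` -/
def spanSub (F : Submodule ℂ V) : Subrepresentation ρ where
  toSubmodule := ⨆ g : L, F.map (ρ g)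
  apply_mem_toSubmodule := fun h v hv => by
    have h1 : (⨆ g : L, F.map (ρ g)) ≤ (⨆ g : L, F.map (ρ g)).comap (ρ h) := by
      refine iSup_le fun g => ?_
      rintro _ ⟨f, hf, rfl⟩
      refine Submodule.mem_iSup_of_mem (h * g) ⟨f, hf, ?_⟩
      rw [map_mul, Module.End.mul_apply]
    exact h1 hv

theorem le_spanSub (F : Submodule ℂ V) : F ≤ (spanSub ρ F).toSubmodule := fun f hf =>
  Submodule.mem_iSup_of_mem 1 ⟨f, hf, by rw [map_one, Module.End.one_apply]⟩

theorem spanSub_le {F : Submodule ℂ V} {U : Subrepresentation ρ} (h : F ≤ U.toSubmodule) :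
    (spanSub ρ F).toSubmodule ≤ U.toSubmodule := by
  refine iSup_le fun g => ?_
  rintro _ ⟨f, hf, rfl⟩
  exact U.apply_mem_toSubmodule g (h hf)

variable {ρ} {P : Subgroup L} {F : Submodule ℂ V}

/-- the summand of a coset -/
noncomputable def summand (ρ : Representation ℂ L V) (P : Subgroup L) (F : Submodule ℂ V) (x : L ⧸ P) : Submodule ℂ V :=
  F.map (ρ x.out)

theorem map_mul_mem (hst : ∀ p ∈ P, ∀ f ∈ F, ρ p f ∈ F) (g : L) {p : L} (hp : p ∈ P) :
    F.map (ρ (g * p)) = F.map (ρ g) := by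
  apply le_antisymm
  · rintro _ ⟨f, hf, rfl⟩
    exact ⟨ρ p f, hst p hp f hf, by rw [map_mul, Module.End.mul_apply]⟩
  · rintro _ ⟨f, hf, rfl⟩
    refine ⟨ρ p⁻¹ f, hst _ (P.inv_mem hp) f hf, ?_⟩
    rw [← Module.End.mul_apply, ← map_mul, mul_assoc, mul_inv_cancel, mul_one]

theorem summand_mk (hst : ∀ p ∈ P, ∀ f ∈ F, ρ p f ∈ F) (g : L) :
    summand ρ P F (QuotientGroup.mk g) = F.map (ρ g) := by
  obtain ⟨p, hp⟩ := QuotientGroup.mk_out_eq_mul P g
  rw [summand, hp, map_mul_mem hst g p.2]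

theorem indep (pr : V →ₗ[ℂ] W) (h1 : ∀ f ∈ F, pr f = 0 → f = 0)
    (h0 : ∀ g : L, g ∉ P → ∀ f ∈ F, pr (ρ g f) = 0) : iSupIndep (summand ρ P F) := by
  rw [iSupIndep_def]
  intro x
  rw [Submodule.disjoint_def]
  rintro _ ⟨f, hf, rfl⟩ hv
  have h2 : (⨆ (y : L ⧸ P) (_ : y ≠ x), summand ρ P F y) ≤ LinearMap.ker (pr ∘ₗ ρ x.out⁻¹) := by
    refine iSup_le fun y => iSup_le fun hy => ?_
    rintro _ ⟨f', hf', rfl⟩
    rw [LinearMap.mem_ker, LinearMap.comp_apply, ← Module.End.mul_apply, ← map_mul]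
    apply h0 _ _ f' hf'
    intro h
    apply hy
    rw [← QuotientGroup.out_eq' y, ← QuotientGroup.out_eq' x]
    exact (QuotientGroup.eq.2 h).symm
  have h3 := h2 hv
  rw [LinearMap.mem_ker, LinearMap.comp_apply, ← Module.End.mul_apply, ← map_mul, inv_mul_cancel, map_one,
    Module.End.one_apply] at h3
  rw [h1 f hf h3, map_zero]

theorem iSup_summand (hst : ∀ p ∈ P, ∀ f ∈ F, ρ p f ∈ F) :
    (⨆ x : L ⧸ P, summand ρ P F x) = ⨆ g : L, F.map (ρ g) := by
  apply le_antisymm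
  · exact iSup_le fun x => le_iSup (fun g : L => F.map (ρ g)) x.out
  · refine iSup_le fun g => ?_
    rw [← summand_mk hst g]
    exact le_iSup (summand ρ P F) _

/-- **the induction lemma**, `V = span (L F)` -/
theorem trace_top [FiniteDimensional ℂ V] (hst : ∀ p ∈ P, ∀ f ∈ F, ρ p f ∈ F) (pr : V →ₗ[ℂ] W)
    (h1 : ∀ f ∈ F, pr f = 0 → f = 0) (h0 : ∀ g : L, g ∉ P → ∀ f ∈ F, pr (ρ g f) = 0)
    (hsp : (⨆ g : L, F.map (ρ g)) = ⊤) {t : L} (ht : ∀ g : L, g * t * g⁻¹ ∉ P) : ρ.character t = 0 := by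
  classical
  have hint : DirectSum.IsInternal (summand ρ P F) :=
    DirectSum.isInternal_submodule_of_iSupIndep_of_iSup_eq_top (indep pr h1 h0) (by rw [iSup_summand hst, hsp])
  refine LinearMap.trace_eq_zero_of_mapsTo_ne hint (fun x => t • x) (fun x hx => ?_) (f := ρ t) fun x => ?_
  · obtain ⟨g, rfl⟩ := QuotientGroup.mk_surjective x
    have h2 : (QuotientGroup.mk (t * g) : L ⧸ P) = QuotientGroup.mk g := hx
    have h3 := QuotientGroup.eq.1 h2.symm
    apply ht g⁻¹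
    rw [inv_inv]
    rwa [← mul_assoc] at h3
  · obtain ⟨g, rfl⟩ := QuotientGroup.mk_surjective x
    intro v hv
    have e1 : summand ρ P F (QuotientGroup.mk g) = F.map (ρ g) := summand_mk hst g
    have e2 : summand ρ P F (t • (QuotientGroup.mk g : L ⧸ P)) = F.map (ρ (t * g)) := summand_mk hst (t * g)
    rw [SetLike.mem_coe, e1] at hv
    change ρ t v ∈ summand ρ P F (t • (QuotientGroup.mk g : L ⧸ P))
    rw [e2]
    obtain ⟨f, hf, rfl⟩ := hv
    exact ⟨f, hf, by rw [map_mul, Module.End.mul_apply]⟩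

/-- **the induction lemma** for a subrepresentation `U = span (L F)` -/
theorem char_sub (hst : ∀ p ∈ P, ∀ f ∈ F, ρ p f ∈ F) (pr : V →ₗ[ℂ] W)
    (h1 : ∀ f ∈ F, pr f = 0 → f = 0) (h0 : ∀ g : L, g ∉ P → ∀ f ∈ F, pr (ρ g f) = 0)
    (U : Subrepresentation ρ) [FiniteDimensional ℂ U.toSubmodule] (hU : (⨆ g : L, F.map (ρ g)) = U.toSubmodule)
    {t : L} (ht : ∀ g : L, g * t * g⁻¹ ∉ P) : U.toRepresentation.character t = 0 := by
  have hFU : F ≤ U.toSubmodule := by
    rw [← hU]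
    exact le_spanSub ρ F
  refine trace_top (ρ := U.toRepresentation) (P := P) (F := F.comap U.toSubmodule.subtype)
    (fun p hp f hf => hst p hp f hf) (pr ∘ₗ U.toSubmodule.subtype) (fun f hf h => Subtype.ext (h1 f hf h))
    (fun g hg f hf => h0 g hg f hf) ?_ ht
  rw [eq_top_iff]
  rintro x -
  have hx : (x : V) ∈ ⨆ g : L, F.map (ρ g) := by
    rw [hU]
    exact x.2
  have h2 : (⨆ g : L, F.map (ρ g)) ≤
      (⨆ g : L, (F.comap U.toSubmodule.subtype).map (U.toRepresentation g)).map U.toSubmodule.subtype := by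
    refine iSup_le fun g => ?_
    rintro _ ⟨f, hf, rfl⟩
    exact ⟨U.toRepresentation g ⟨f, hFU hf⟩, Submodule.mem_iSup_of_mem g ⟨⟨f, hFU hf⟩, hf, rfl⟩, rfl⟩
  obtain ⟨y, hy, hyx⟩ := h2 hx
  have : y = x := Subtype.ext hyx
  rw [← this]
  exact hy

/-- the trace of `t` on `span (L F)` is zero -/
theorem char_span [FiniteDimensional ℂ V] (hst : ∀ p ∈ P, ∀ f ∈ F, ρ p f ∈ F) (pr : V →ₗ[ℂ] W)
    (h1 : ∀ f ∈ F, pr f = 0 → f = 0) (h0 : ∀ g : L, g ∉ P → ∀ f ∈ F, pr (ρ g f) = 0)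
    {t : L} (ht : ∀ g : L, g * t * g⁻¹ ∉ P) : (spanSub ρ F).toRepresentation.character t = 0 :=
  char_sub hst pr h1 h0 (spanSub ρ F) rfl ht

/-- irreducible version: `F ≠ 0` suffices -/
theorem char_irr [FiniteDimensional ℂ V] (hirr : ρ.IsIrreducible) (hF : F ≠ ⊥) (hst : ∀ p ∈ P, ∀ f ∈ F, ρ p f ∈ F)
    (pr : V →ₗ[ℂ] W) (h1 : ∀ f ∈ F, pr f = 0 → f = 0) (h0 : ∀ g : L, g ∉ P → ∀ f ∈ F, pr (ρ g f) = 0)
    {t : L} (ht : ∀ g : L, g * t * g⁻¹ ∉ P) : ρ.character t = 0 := by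
  rcases hirr.2 (spanSub ρ F) with h2 | h2
  · exfalso
    apply hF
    rw [eq_bot_iff]
    intro f hf
    have h3 := le_spanSub ρ F hf
    rw [h2] at h3
    exact h3
  · exact trace_top hst pr h1 h0 (congrArg Subrepresentation.toSubmodule h2) ht

/-- irreducible constituents of `V`: if each irreducible subrepresentation `N` has a `P` and a nonzero `F ≤ N` as in the
induction lemma, with no conjugate of `t` in `P`, then the character of `V` vanishes at `t` -/
theorem char_of_irr [Finite L] [FiniteDimensional ℂ V] {t : L}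
    (h : ∀ N : Subrepresentation ρ, N.toRepresentation.IsIrreducible →
      ∃ (P : Subgroup L) (F : Submodule ℂ V) (pr : V →ₗ[ℂ] V), F ≠ ⊥ ∧ F ≤ N.toSubmodule ∧ (∀ p ∈ P, ∀ f ∈ F, ρ p f ∈ F) ∧
        (∀ f ∈ F, pr f = 0 → f = 0) ∧ (∀ g : L, g ∉ P → ∀ f ∈ F, pr (ρ g f) = 0) ∧ ∀ g : L, g * t * g⁻¹ ∉ P) :
    ρ.character t = 0 := by
  classical
  obtain ⟨e⟩ : Nonempty (Representation.Equiv ρ (⊤ : Subrepresentation ρ).toRepresentation) :=
    ⟨Representation.Equiv.mk (LinearEquiv.ofTop _ rfl).symm fun g => by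
      ext x
      rfl⟩
  rw [Representation.char_iso e]
  refine char_eq_zero_of_irr (finrank ℂ (⊤ : Subrepresentation ρ).toSubmodule) ⊤ le_rfl fun N _ hN => ?_
  obtain ⟨P, F, pr, hF, hFN, hst, h1, h0, ht⟩ := h N hN
  refine char_irr hN (P := P) (F := F.comap N.toSubmodule.subtype) ?_ (fun p hp f hf => hst p hp f hf)
    (pr ∘ₗ N.toSubmodule.subtype) (fun f hf h => Subtype.ext (h1 f hf h)) (fun g hg f hf => h0 g hg f hf) ht
  intro h2
  apply hF
  rw [eq_bot_iff]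
  intro f hf
  have h3 : (⟨f, hFN hf⟩ : N.toSubmodule) ∈ F.comap N.toSubmodule.subtype := hf
  rw [h2] at h3
  exact congrArg Subtype.val ((Submodule.mem_bot ℂ).1 h3)

end

end Cfsg.Agent.H224.OZ.Ind
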