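import Mathlib

/-!
# S4842, small Ree groups: the degrees of the constituents of the principal series of the quadratic character
(helper224)
-/

set_option autoImplicit false

namespace Cfsg.Agent.H224.OZ

theorem small_dvd {N v : ℤ} (h : N ∣ v) (h1 : -N < v) (h2 : v < N) : v = 0 := by
  obtain ⟨c, rfl⟩ := h
  have hN : 0 < N := by linarith
  have h3 : c < 1 := by
    by_contra hc
    nlinarith
  have h4 : -1 < c := by
    by_contra hc
    nlinarith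
  have : c = 0 := by omega
  rw [this, mul_zero]

/-- the exponent -/
theorem arith_exp {a N : ℕ} (ha : 2 ≤ a) (hN : 3 ^ a = 2 * N + 1) (hodd : N % 2 = 1) {x j : ℕ} (hx : x ∣ 4)
    (h : (N : ℤ) ∣ (x : ℤ) * 3 ^ j - 2) : x = 2 ∧ a ∣ j := by
  have h9 : 3 ^ 2 ≤ 3 ^ a := Nat.pow_le_pow_right (by norm_num) ha
  obtain ⟨s, t, hst, hta⟩ : ∃ s t, j = a * s + t ∧ t < a := ⟨j / a, j % a, (Nat.div_add_mod j a).symm, Nat.mod_lt _ (by omega)⟩
  have hNa : (N : ℤ) ∣ 3 ^ a - 1 := ⟨2, by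
    have : ((3 ^ a : ℕ) : ℤ) = ((2 * N + 1 : ℕ) : ℤ) := by rw [hN]
    push_cast at this
    rw [this]; ring⟩
  have h1 : (N : ℤ) ∣ 3 ^ (a * s) - 1 := by
    have h2 : (3 : ℤ) ^ a - 1 ∣ (3 ^ a) ^ s - 1 ^ s := sub_dvd_pow_sub_pow _ _ s
    rw [one_pow, ← pow_mul] at h2
    exact hNa.trans h2
  have h2 : (N : ℤ) ∣ (x : ℤ) * 3 ^ t - 2 := by
    have h3 := dvd_sub h (Dvd.dvd.mul_left h1 ((x : ℤ) * 3 ^ t))
    have h4 : (x : ℤ) * 3 ^ j - 2 - (x : ℤ) * 3 ^ t * (3 ^ (a * s) - 1) = (x : ℤ) * 3 ^ t - 2 := by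
      rw [hst, pow_add]; ring
    rwa [h4] at h3
  have hbd : (3 : ℤ) * 3 ^ t ≤ 2 * N + 1 := by
    have h5 : 3 ^ (t + 1) ≤ 3 ^ a := Nat.pow_le_pow_right (by norm_num) hta
    rw [hN, pow_succ, mul_comm] at h5
    exact_mod_cast h5
  have ht1 : (1 : ℤ) ≤ 3 ^ t := by exact_mod_cast Nat.one_le_pow _ _ (by norm_num)
  have hN4 : (4 : ℤ) ≤ N := by
    have : 4 ≤ N := by omega
    exact_mod_cast this
  have hcop : IsCoprime (N : ℤ) 2 := by
    rw [Int.isCoprime_iff_gcd_eq_one]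
    have : Nat.Coprime N 2 := by
      rw [Nat.coprime_two_right, Nat.odd_iff]; exact hodd
    exact_mod_cast this
  have hodd3 : ∀ k : ℕ, (3 : ℤ) ^ k % 2 = 1 := fun k => by
    have : Odd ((3 : ℤ) ^ k) := Odd.pow (by decide)
    exact Int.odd_iff.1 this
  have hx4 : x = 1 ∨ x = 2 ∨ x = 4 := by
    have := Nat.le_of_dvd (by norm_num) hx
    interval_cases x <;> omega
  rcases hx4 with rfl | rfl | rfl
  · exfalso
    have h3 := small_dvd h2 (by push_cast; linarith) (by push_cast; linarith)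
    have h4 := hodd3 t
    push_cast at h3
    omega
  · refine ⟨rfl, ?_⟩
    have h3 : (N : ℤ) ∣ 3 ^ t - 1 := by
      have h4 : ((2 : ℕ) : ℤ) * 3 ^ t - 2 = (3 ^ t - 1) * 2 := by push_cast; ring
      rw [h4] at h2
      exact hcop.dvd_of_dvd_mul_right h2
    have h4 := small_dvd h3 (by linarith) (by linarith)
    have h5 : t = 0 := by
      by_contra h0
      have h6 : 3 ^ 1 ≤ 3 ^ t := Nat.pow_le_pow_right (by norm_num) (Nat.pos_of_ne_zero h0)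
      have h7 : ((3 ^ 1 : ℕ) : ℤ) ≤ ((3 ^ t : ℕ) : ℤ) := by exact_mod_cast h6
      push_cast at h7
      linarith
    rw [hst, h5, add_zero]
    exact dvd_mul_right _ _
  · exfalso
    have h3 : (N : ℤ) ∣ 2 * 3 ^ t - 1 := by
      have h4 : ((4 : ℕ) : ℤ) * 3 ^ t - 2 = (2 * 3 ^ t - 1) * 2 := by push_cast; ring
      rw [h4] at h2
      exact hcop.dvd_of_dvd_mul_right h2
    have h4 := small_dvd (v := 2 * 3 ^ t - 1 - N) (dvd_sub h3 (dvd_refl _)) (by linarith) (by linarith)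
    have h5 : 4 * 3 ^ t = 3 ^ a + 1 := by
      have h6 : ((3 ^ a : ℕ) : ℤ) = ((2 * N + 1 : ℕ) : ℤ) := by rw [hN]
      push_cast at h6
      have h7 : (4 : ℤ) * 3 ^ t = 3 ^ a + 1 := by linarith
      exact_mod_cast h7
    rcases Nat.eq_zero_or_pos t with h0 | h0
    · rw [h0] at h5
      omega
    · have h6 : 3 ∣ 3 ^ t := dvd_pow_self 3 (by omega)
      have h7 : 3 ∣ 3 ^ a := dvd_pow_self 3 (by omega)
      omega

theorem cop_of_dvd {N : ℕ} (d : ℕ) (hd : (N : ℤ) ∣ (d : ℤ) - 1) : Nat.Coprime d N := by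
  apply Nat.coprime_of_dvd
  intro r hr h4 h5
  have h6 : (r : ℤ) ∣ (d : ℤ) - 1 := (Int.natCast_dvd_natCast.2 h5).trans hd
  have h7 : (r : ℤ) ∣ (d : ℤ) := Int.natCast_dvd_natCast.2 h4
  have h8 := dvd_sub h7 h6
  rw [sub_sub_cancel] at h8
  have h9 : r ∣ 1 := by exact_mod_cast h8
  exact hr.one_lt.ne' (Nat.dvd_one.1 h9)

/-- **The degrees.** -/
theorem arith_deg {a N q d₁ d₂ : ℕ} (ha : 2 ≤ a) (hq : q = 3 ^ a) (hN : q = 2 * N + 1) (hodd : N % 2 = 1)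
    (h1 : 3 ∣ d₁ - 1) (h1' : 1 < d₁) (h2 : (N : ℤ) ∣ (d₁ : ℤ) - 1) (h3 : (N : ℤ) ∣ (d₂ : ℤ) - 1)
    (hs : d₁ + d₂ = q ^ 3 + 1) (hd1 : d₁ ∣ q ^ 3 * (q - 1) * (q ^ 3 + 1)) (hd2 : d₂ ∣ q ^ 3 * (q - 1) * (q ^ 3 + 1)) :
    d₁ * (q + 1) = q ^ 3 + 1 := by
  have h9 : 3 ^ 2 ≤ 3 ^ a := Nat.pow_le_pow_right (by norm_num) ha
  have hq3 : 3 ∣ q := by rw [hq]; exact dvd_pow_self 3 (by omega)
  have hq0 : 0 < q := by omega
  have hq30 : 0 < q ^ 3 := by positivity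
  have hd20 : 0 < d₂ := by
    rcases Nat.eq_zero_or_pos d₂ with h | h
    · exfalso
      rw [h] at h3
      have := small_dvd h3 (by push_cast; omega) (by push_cast; omega)
      norm_num at this
    · exact h
  have h3d : ¬ 3 ∣ d₁ := by omega
  have c1 : Nat.Coprime d₁ (q ^ 3) := by
    rw [hq, ← pow_mul]
    apply Nat.Coprime.pow_right
    rw [Nat.coprime_comm, Nat.Prime.coprime_iff_not_dvd Nat.prime_three]
    exact h3d
  have e6 : q ^ 3 * (q - 1) * (q ^ 3 + 1) = N * (q ^ 3 * (2 * (q ^ 3 + 1))) := by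
    have h7 : q - 1 = 2 * N := by omega
    rw [h7]
    ring
  have h5 : d₁ ∣ 2 * (q ^ 3 + 1) := by
    rw [e6] at hd1
    exact c1.dvd_of_dvd_mul_left ((cop_of_dvd d₁ h2).dvd_of_dvd_mul_left hd1)
  have h6 : d₂ ∣ q ^ 3 * (2 * (q ^ 3 + 1)) := by
    rw [e6] at hd2
    exact (cop_of_dvd d₂ h3).dvd_of_dvd_mul_left hd2
  obtain ⟨k, hk⟩ := h5
  have hk2 : 2 < k := by
    by_contra hcon
    have : d₁ * k ≤ d₁ * 2 := Nat.mul_le_mul_left _ (by omega)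
    omega
  obtain ⟨e, rfl⟩ := Nat.exists_eq_add_of_le hk2.le
  have he0 : 0 < e := by omega
  have h7 : d₁ * e = 2 * d₂ := by
    rw [mul_add d₁] at hk
    omega
  have h8 : e ∣ 4 * q ^ 3 := by
    have e1 : d₁ * e ∣ d₁ * (2 * q ^ 3 * (2 + e)) := by
      rw [h7]
      have e2 : d₁ * (2 * q ^ 3 * (2 + e)) = 2 * (q ^ 3 * (2 * (q ^ 3 + 1))) := by
        rw [hk]; ring
      rw [e2]
      exact Nat.mul_dvd_mul_left 2 h6
    have e2 := Nat.dvd_of_mul_dvd_mul_left (by omega) e1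
    have e3 : 2 * q ^ 3 * (2 + e) = 4 * q ^ 3 + 2 * q ^ 3 * e := by ring
    rw [e3] at e2
    exact (Nat.dvd_add_left (Dvd.intro_left _ rfl)).1 e2
  obtain ⟨x, y, hx, hy, hxy⟩ := (Nat.dvd_mul).1 h8
  rw [hq, ← pow_mul] at hy
  obtain ⟨j, hj, rfl⟩ := (Nat.dvd_prime_pow Nat.prime_three).1 hy
  have hNq : (N : ℤ) ∣ (q : ℤ) ^ 3 - 1 := by
    have e1 : (q : ℤ) - 1 ∣ q ^ 3 - 1 ^ 3 := sub_dvd_pow_sub_pow _ _ 3
    rw [one_pow] at e1
    refine Dvd.dvd.trans ⟨2, ?_⟩ e1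
    rw [hN]; push_cast; ring
  have hmod : (N : ℤ) ∣ (x : ℤ) * 3 ^ j - 2 := by
    have e1 : ((x : ℤ) * 3 ^ j) = e := by
      rw [← hxy]; push_cast; ring
    rw [e1]
    have e2 : (2 : ℤ) * (q ^ 3 + 1) = d₁ * (2 + e) := by exact_mod_cast hk
    have e3 : (e : ℤ) - 2 = 2 * ((q : ℤ) ^ 3 - 1) - ((d₁ : ℤ) - 1) * (2 + e) := by linarith
    rw [e3]
    exact dvd_sub (Dvd.dvd.mul_left hNq _) (Dvd.dvd.mul_right h2 _)
  obtain ⟨rfl, s, hs'⟩ := arith_exp ha (hq ▸ hN) hodd hx hmod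
  have hs3 : s ≤ 3 := by
    by_contra hcon
    have : a * 4 ≤ a * s := Nat.mul_le_mul_left _ (by omega)
    omega
  have hdk : d₁ * (q ^ s + 1) = q ^ 3 + 1 := by
    have e1 : e = 2 * q ^ s := by rw [← hxy, hs', pow_mul, ← hq]
    rw [e1] at hk
    have : 2 * (d₁ * (q ^ s + 1)) = 2 * (q ^ 3 + 1) := by rw [hk]; ring
    omega
  interval_cases s
  · exfalso
    have e1 : 3 ∣ q ^ 3 := dvd_pow hq3 (by norm_num)
    rw [pow_zero] at hdk
    omega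
  · rw [pow_one] at hdk
    exact hdk
  · exfalso
    have e1 : q ^ 2 + 1 ∣ q - 1 := by
      have e2 : q ^ 2 + 1 ∣ q ^ 3 + 1 := ⟨d₁, by rw [← hdk]; ring⟩
      have e3 : q ^ 2 + 1 ∣ q ^ 3 + 1 + (q - 1) := by
        have : q ^ 3 + 1 + (q - 1) = q * (q ^ 2 + 1) := by
          have : q ^ 3 + 1 + (q - 1) = q ^ 3 + q := by omega
          rw [this]; ring
        rw [this]
        exact Dvd.intro_left _ rfl
      exact (Nat.dvd_add_right e2).1 e3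
    have e2 := Nat.le_of_dvd (by omega) e1
    have e3 : q ≤ q ^ 2 := Nat.le_self_pow (by norm_num) q
    omega
  · exfalso
    have : d₁ = 1 := by
      have e1 : d₁ * (q ^ 3 + 1) = 1 * (q ^ 3 + 1) := by rw [hdk, one_mul]
      exact Nat.eq_of_mul_eq_mul_right (by omega) e1
    omega

end Cfsg.Agent.H224.OZ
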